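import Cfsg.Agent.H701.F43.Cent
import Cfsg.Agent.Nodes.CardSup

/-!
# Orbits of the parabolic subgroup of type `C₃` of `F₄(q)` on its unipotent radical (S2464)

`K` a finite field with `2 ≠ 0`, `V = VJ J` (`J = {0, 1, 2}`, order `q ^ 15`), `θ = vec chevF4 4 47`.

* `R u c` : `u = ∏ x_s(c s) * x_θ(b)`, `s` in the list `L14` of the 14 roots of level one;
* `oc3` : `u ∈ V`, `u ∉ X_θ`: the class of `u` under `P_J` has at least `q ^ 7` elements.
-/

set_option autoImplicit false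
set_option linter.unusedSectionVars false

namespace Cfsg.Agent.H797.FQ

open CoxeterSystem Cfsg.Agent.ChevalleyStructure.CoxeterGeom Cfsg.Agent.Tits.Roots Cfsg.Agent.Tits.Core
  Cfsg.Agent.Tits.Exchange Cfsg.Agent.Nodes.Reps Cfsg.Agent.Nodes.BNOf Cfsg.Agent.Nodes.StabComb
  Cfsg.Agent.Nodes.Bruhat Cfsg.Agent.Nodes.OppDec Cfsg.Agent.Nodes.LeviDec
  Cfsg.Agent.Nodes.RGDChev Cfsg.Agent.KFacts.RgdPar Cfsg.Agent.KFacts.RgdChevCoord
  Cfsg.Agent.H225.PPow Cfsg.Agent.H701.F43.Cent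
open Cfsg.Lie Cfsg.Agent.ChevalleyStructure Cfsg.Agent.ChevalleyStructure.CoxeterGeomTypes

universe u

variable {K : Type u} [Field K]

/-- root elements -/
noncomputable abbrev e (r : ℕ) (t : K) : ↥(chevF4.group K) := ex hF r t

/-- the 14 roots of level one -/
def L14 : List ℕ := [24, 26, 29, 31, 32, 36, 38, 39, 40, 42, 43, 44, 45, 46]

/-- products -/
noncomputable def E (L : List ℕ) (c : ℕ → K) : ↥(chevF4.group K) := (L.map fun s => e s (c s)).prod

/-- the coordinates of an element of `V` -/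
def R (u : ↥(chevF4.group K)) (c : ℕ → K) : Prop := ∃ b : K, u = E L14 c * e 47 b

theorem E_nil (c : ℕ → K) : E [] c = 1 := rfl

theorem E_cons (s : ℕ) (L : List ℕ) (c : ℕ → K) : E (s :: L) c = e s (c s) * E L c := by
  unfold E
  rw [List.map_cons, List.prod_cons]

theorem lt48 : ∀ r ∈ idxV, r < chevF4.nroots := lt_idxV

theorem L14_sub : ∀ s ∈ L14, s ∈ idxV := by decide

theorem L14_ne : ∀ s ∈ L14, s ≠ 47 := by decide

theorem L14_nodup : L14.Nodup := by decide

theorem tab47 : ∀ s ∈ idxV ++ idxM, s ≠ 47 → s ≠ chevF4.neg 47 → chevF4.commTerms 47 s = [] := by decide +kernel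

theorem ne_neg47 : ∀ s ∈ idxV ++ idxM, s ≠ chevF4.neg 47 := by decide +kernel

theorem comm47 {s : ℕ} (hs : s ∈ idxV ++ idxM) (a b : K) : e s a * e 47 b = e 47 b * e s a := by
  by_cases h : s = 47
  · subst h
    show ex hF 47 a * ex hF 47 b = ex hF 47 b * ex hF 47 a
    rw [← ex_add hF, ← ex_add hF, add_comm]
  · have hlt : s < chevF4.nroots := by
      rcases List.mem_append.1 hs with h1 | h1
      · exact lt_idxV s h1
      · exact lt_idxM s h1
    have h47 : (47 : ℕ) < chevF4.nroots := by rw [nroots]; norm_num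
    have h1 := ex_comm hF h47 hlt h (ne_neg47 s hs) b a
    rw [tab47 s hs h (ne_neg47 s hs), List.map_nil, List.prod_nil, mul_one] at h1
    exact h1

theorem prod47 (l : List (ℕ × ℤ × ℕ × ℕ)) (f : ℕ × ℤ × ℕ × ℕ → K) (h : ∀ c ∈ l, c.1 = 47) :
    ∃ b : K, ((l.map fun c => ex hF c.1 (f c))).prod = e 47 b := by
  induction l with
  | nil => exact ⟨0, by rw [List.map_nil, List.prod_nil]; exact (ex_zero hF 47).symm⟩
  | cons c l ih =>
    obtain ⟨b, hb⟩ := ih fun c hc => h c (List.mem_cons_of_mem _ hc)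
    refine ⟨f c + b, ?_⟩
    rw [List.map_cons, List.prod_cons, hb, h c List.mem_cons_self]
    exact (ex_add hF 47 _ _).symm

theorem tabLL : ∀ r ∈ L14, ∀ s ∈ L14, s ≠ r → s ≠ chevF4.neg r ∧ ∀ c ∈ chevF4.commTerms r s, c.1 = 47 := by
  decide +kernel

/-- commutators in `V` -/
theorem commLL {r s : ℕ} (hr : r ∈ L14) (hs : s ∈ L14) (x y : K) :
    ∃ b : K, e s x * e r y = e r y * e s x * e 47 b := by
  by_cases h : s = r
  · subst h
    refine ⟨0, ?_⟩
    have h0 : (e 47 (0 : K)) = 1 := ex_zero hF 47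
    rw [h0, mul_one]
    show ex hF s x * ex hF s y = ex hF s y * ex hF s x
    rw [← ex_add hF, ← ex_add hF, add_comm]
  · obtain ⟨h1, h2⟩ := tabLL r hr s hs h
    obtain ⟨b, hb⟩ := prod47 (chevF4.commTerms r s) (fun c => (c.2.1 : K) * (-y) ^ c.2.2.1 * x ^ c.2.2.2) h2
    refine ⟨b, ?_⟩
    rw [← hb]
    exact ex_comm hF (lt_idxV r (L14_sub r hr)) (lt_idxV s (L14_sub s hs)) h h1 y x

theorem e47_add (a b : K) : e 47 a * e 47 b = e 47 (a + b) := (ex_add hF 47 a b).symm

theorem e47_comm_E {L : List ℕ} (hL : ∀ s ∈ L, s ∈ L14) (c : ℕ → K) (b : K) : E L c * e 47 b = e 47 b * E L c := by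
  induction L with
  | nil => rw [E_nil, one_mul, mul_one]
  | cons s L ih =>
    have h1 := ih fun s hs => hL s (List.mem_cons_of_mem _ hs)
    have h2 := comm47 (List.mem_append_left _ (L14_sub s (hL s List.mem_cons_self))) (c s) b
    rw [E_cons, mul_assoc, h1, ← mul_assoc, h2, mul_assoc]

theorem E_mul_e {L : List ℕ} (hL : ∀ s ∈ L, s ∈ L14) (c : ℕ → K) {r : ℕ} (hr : r ∈ L14) (y : K) :
    ∃ b : K, E L c * e r y = e r y * E L c * e 47 b := by
  induction L with
  | nil => exact ⟨0, by rw [E_nil, show e 47 (0 : K) = 1 from ex_zero hF 47]; group⟩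
  | cons s L ih =>
    obtain ⟨b, hb⟩ := ih fun s hs => hL s (List.mem_cons_of_mem _ hs)
    obtain ⟨b', hb'⟩ := commLL hr (hL s List.mem_cons_self) (c s) y
    have h1 := e47_comm_E (fun s hs => hL s (List.mem_cons_of_mem _ hs)) c b'
    refine ⟨b' + b, ?_⟩
    rw [E_cons, mul_assoc, hb, ← e47_add]
    calc e s (c s) * (e r y * E L c * e 47 b) = (e s (c s) * e r y) * E L c * e 47 b := by group
      _ = e r y * e s (c s) * (e 47 b' * E L c) * e 47 b := by rw [hb']; group
      _ = e r y * e s (c s) * (E L c * e 47 b') * e 47 b := by rw [h1]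
      _ = _ := by group

theorem E_mul {L : List ℕ} (hL : ∀ s ∈ L, s ∈ L14) (c d : ℕ → K) :
    ∃ b : K, E L c * E L d = E L (c + d) * e 47 b := by
  induction L with
  | nil => exact ⟨0, by rw [E_nil, E_nil, E_nil, show e 47 (0 : K) = 1 from ex_zero hF 47]⟩
  | cons s L ih =>
    have hL' : ∀ s ∈ L, s ∈ L14 := fun s hs => hL s (List.mem_cons_of_mem _ hs)
    obtain ⟨b, hb⟩ := ih hL'
    obtain ⟨b', hb'⟩ := E_mul_e hL' c (hL s List.mem_cons_self) (d s)
    have h1 := e47_comm_E hL' d b'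
    refine ⟨b + b', ?_⟩
    rw [E_cons, E_cons, E_cons, ← e47_add]
    have h2 : e s ((c + d) s) = e s (c s) * e s (d s) := ex_add hF s (c s) (d s)
    calc e s (c s) * E L c * (e s (d s) * E L d) = e s (c s) * (E L c * e s (d s)) * E L d := by group
      _ = e s (c s) * e s (d s) * E L c * (e 47 b' * E L d) := by rw [hb']; group
      _ = e s (c s) * e s (d s) * E L c * (E L d * e 47 b') := by rw [h1]
      _ = e s (c s) * e s (d s) * (E L c * E L d) * e 47 b' := by group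
      _ = e s ((c + d) s) * E L (c + d) * (e 47 b * e 47 b') := by rw [hb, h2]; group

theorem R.mul {u v : ↥(chevF4.group K)} {c d : ℕ → K} (hu : R u c) (hv : R v d) : R (u * v) (c + d) := by
  obtain ⟨a, rfl⟩ := hu
  obtain ⟨b, rfl⟩ := hv
  obtain ⟨b', hb'⟩ := E_mul (fun s hs => hs) c d (L := L14)
  have h1 := e47_comm_E (fun s hs => hs) d a (L := L14)
  refine ⟨b' + a + b, ?_⟩
  calc E L14 c * e 47 a * (E L14 d * e 47 b) = E L14 c * (e 47 a * E L14 d) * e 47 b := by group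
    _ = E L14 c * E L14 d * e 47 a * e 47 b := by rw [← h1]; group
    _ = E L14 (c + d) * (e 47 b' * e 47 a * e 47 b) := by rw [hb']; group
    _ = _ := by rw [e47_add, e47_add]

theorem E_zero (L : List ℕ) : E L (0 : ℕ → K) = 1 := by
  induction L with
  | nil => rfl
  | cons s L ih => rw [E_cons, ih, mul_one]; exact ex_zero hF s

theorem E_congr {L : List ℕ} {c d : ℕ → K} (h : ∀ s ∈ L, c s = d s) : E L c = E L d := by
  unfold E
  congr 1
  exact List.map_congr_left fun s hs => by rw [h s hs]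

/-- unit vectors, `0` for `θ` -/
def sg (v : ℕ) (x : K) : ℕ → K := if v = 47 then 0 else Pi.single v x

theorem E_single {L : List ℕ} (hn : L.Nodup) {s : ℕ} (x : K) (hs : s ∈ L) : E L (Pi.single s x : ℕ → K) = e s x := by
  induction L with
  | nil => simp at hs
  | cons r L ih =>
    rw [List.nodup_cons] at hn
    rw [E_cons]
    rcases List.mem_cons.1 hs with h | h
    · subst h
      rw [Pi.single_eq_same, E_congr (d := 0), E_zero, mul_one]
      intro r hr
      exact Pi.single_eq_of_ne (by rintro rfl; exact hn.1 hr) _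
    · rw [ih hn.2 h, Pi.single_eq_of_ne (by rintro rfl; exact hn.1 h), show e r (0 : K) = 1 from ex_zero hF r, one_mul]

theorem R.one : R (1 : ↥(chevF4.group K)) 0 :=
  ⟨0, by rw [E_zero, show e 47 (0 : K) = 1 from ex_zero hF 47, mul_one]⟩

theorem idxV_cases : ∀ s ∈ idxV, s = 47 ∨ s ∈ L14 := by decide

theorem R.sg {v : ℕ} (hv : v ∈ idxV) (x : K) : R (e v x) (sg v x) := by
  rcases idxV_cases v hv with h | h
  · subst h
    refine ⟨x, ?_⟩
    show e 47 x = E L14 (if (47 : ℕ) = 47 then 0 else Pi.single 47 x) * e 47 x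
    rw [if_pos rfl, E_zero, one_mul]
  · refine ⟨0, ?_⟩
    show e v x = E L14 (if v = 47 then 0 else Pi.single v x) * e 47 0
    rw [if_neg (L14_ne v h), E_single L14_nodup x h, show e 47 (0 : K) = 1 from ex_zero hF 47, mul_one]

theorem R.prod {α : Type*} {l : List α} {f : α → ↥(chevF4.group K)} {g : α → ℕ → K} (h : ∀ a ∈ l, R (f a) (g a)) :
    R (l.map f).prod (l.map g).sum := by
  induction l with
  | nil => exact R.one
  | cons a l ih =>
    rw [List.map_cons, List.prod_cons, List.map_cons, List.sum_cons]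
    exact (h a List.mem_cons_self).mul (ih fun b hb => h b (List.mem_cons_of_mem _ hb))

theorem R.inv {u : ↥(chevF4.group K)} {c : ℕ → K} (hu : R u c) : R u⁻¹ (-c) := by
  obtain ⟨a, rfl⟩ := hu
  obtain ⟨b, hb⟩ := E_mul (fun s hs => hs) c (-c) (L := L14)
  rw [add_neg_cancel, E_zero, one_mul] at hb
  have h1 := e47_comm_E (fun s hs => hs) (-c) (-a + -b) (L := L14)
  have h3 : ∀ x : K, e 47 (-x) = (e 47 x)⁻¹ := fun x => ex_neg hF 47 x
  refine ⟨-a + -b, ?_⟩
  rw [h1, ← e47_add, h3, h3]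
  have h2 : (E L14 c)⁻¹ = E L14 (-c) * (e 47 b)⁻¹ := by
    rw [inv_eq_iff_mul_eq_one, ← mul_assoc, hb, mul_inv_cancel]
  have h4 := e47_comm_E (fun s hs => hs) (-c) (-b) (L := L14)
  rw [h3] at h4
  rw [mul_inv_rev, h2, h4, mul_assoc]

/-- the coordinates of the conjugate of a root element -/
noncomputable def img (g : ℕ) (t : K) (s : ℕ) (b : K) : ℕ → K :=
  sg s b + ((chevF4.commTerms g s).map fun c => sg c.1 ((c.2.1 : K) * t ^ c.2.2.1 * b ^ c.2.2.2)).sum

theorem tabM : ∀ g ∈ idxM ++ idxV, ∀ s ∈ idxV, g ≠ s → s ≠ chevF4.neg g ∧ ∀ c ∈ chevF4.commTerms g s, c.1 ∈ idxV := by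
  decide +kernel

theorem conj_e {g s : ℕ} (hg : g < chevF4.nroots) (hs : s < chevF4.nroots) (hgs : g ≠ s) (hn : s ≠ chevF4.neg g)
    (t b : K) : e g t * e s b * (e g t)⁻¹ =
      e s b * ((chevF4.commTerms g s).map fun c => e c.1 ((c.2.1 : K) * t ^ c.2.2.1 * b ^ c.2.2.2)).prod := by
  have h1 := ex_comm hF hg hs (Ne.symm hgs) hn (-t) b
  simp only [neg_neg] at h1
  have h2 : (e g t)⁻¹ = e g (-t) := (ex_neg hF g t).symm
  rw [h2, mul_assoc]
  show ex hF g t * (ex hF s b * ex hF g (-t)) = _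
  rw [h1, ← mul_assoc, ← mul_assoc]
  have h3 : ex hF g t * ex hF g (-t) = 1 := by rw [← ex_add hF, add_neg_cancel, ex_zero]
  rw [h3, one_mul]

theorem R.img {g s : ℕ} (hg : g ∈ idxM ++ idxV) (hs : s ∈ idxV) (hgs : g ≠ s) (t b : K) :
    R (e g t * e s b * (e g t)⁻¹) (img g t s b) := by
  obtain ⟨h1, h2⟩ := tabM g hg s hs hgs
  have hlt : g < chevF4.nroots := by
    rcases List.mem_append.1 hg with h | h
    · exact lt_idxM g h
    · exact lt_idxV g h
  rw [conj_e hlt (lt_idxV s hs) hgs h1]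
  exact (R.sg hs b).mul (R.prod fun c hc => R.sg (h2 c hc) _)

/-- the action on the coordinates -/
noncomputable def MM' (g : ℕ) (t : K) (c : ℕ → K) : ℕ → K := (L14.map fun s => img g t s (c s)).sum

theorem conj_E (x : ↥(chevF4.group K)) (L : List ℕ) (c : ℕ → K) :
    x * E L c * x⁻¹ = (L.map fun s => x * e s (c s) * x⁻¹).prod := by
  induction L with
  | nil => rw [E_nil, List.map_nil, List.prod_nil, mul_one, mul_inv_cancel]
  | cons s L ih => rw [E_cons, List.map_cons, List.prod_cons, ← ih]; group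

theorem idxM_ne : ∀ g ∈ idxM, ∀ s ∈ idxV, g ≠ s := by decide

theorem R.conj {u : ↥(chevF4.group K)} {c : ℕ → K} (hu : R u c) {g : ℕ} (hg : g ∈ idxM) (t : K) :
    R (e g t * u * (e g t)⁻¹) (MM' g t c) := by
  obtain ⟨b, rfl⟩ := hu
  have h1 : e g t * (E L14 c * e 47 b) * (e g t)⁻¹ = e g t * E L14 c * (e g t)⁻¹ * e 47 b := by
    have h2 : e g t * e 47 b = e 47 b * e g t := comm47 (List.mem_append_right _ hg) t b
    have h3 : e 47 b * (e g t)⁻¹ = (e g t)⁻¹ * e 47 b := by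
      rw [mul_inv_eq_iff_eq_mul, mul_assoc, ← h2, ← mul_assoc, inv_mul_cancel, one_mul]
    rw [← mul_assoc, mul_assoc _ (e 47 b) _, h3]
    group
  rw [h1, conj_E]
  have h4 := (R.prod (l := L14) (f := fun s => e g t * e s (c s) * (e g t)⁻¹) (g := fun s => FQ.img g t s (c s))
    fun s hs => R.img (List.mem_append_left _ hg) (L14_sub s hs) (idxM_ne g hg s (L14_sub s hs)) t (c s)).mul
    (R.sg (v := 47) (by decide) b)
  have h5 : FQ.sg 47 b = (0 : ℕ → K) := if_pos rfl
  rw [h5, add_zero] at h4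
  exact h4

/-- the contributions to the coordinate `m` -/
def ctr (g m : ℕ) : List (ℕ × ℤ × ℕ × ℕ) :=
  L14.flatMap fun s => ((chevF4.commTerms g s).filter fun c => c.1 = m).map fun c => (s, c.2.1, c.2.2.1, c.2.2.2)

theorem sum_apply {α : Type*} (l : List α) (f : α → ℕ → K) (m : ℕ) : (l.map f).sum m = (l.map fun a => f a m).sum := by
  induction l with
  | nil => rfl
  | cons a l ih => rw [List.map_cons, List.sum_cons, List.map_cons, List.sum_cons, Pi.add_apply, ih]

theorem sg_apply {v m : ℕ} (hm : m ≠ 47) (x : K) : sg v x m = if v = m then x else 0 := by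
  unfold sg
  by_cases h : v = 47
  · rw [if_pos h, if_neg (by rintro rfl; exact hm h)]
    rfl
  · rw [if_neg h]
    by_cases h1 : v = m
    · subst h1
      rw [Pi.single_eq_same, if_pos rfl]
    · rw [Pi.single_eq_of_ne (Ne.symm h1), if_neg h1]

theorem sum_filter (l : List (ℕ × ℤ × ℕ × ℕ)) (m : ℕ) (f : ℕ × ℤ × ℕ × ℕ → K) :
    (l.map fun c => if c.1 = m then f c else 0).sum = ((l.filter fun c => c.1 = m).map f).sum := by
  induction l with
  | nil => rfl
  | cons a l ih =>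
    rw [List.map_cons, List.sum_cons, ih]
    by_cases h : a.1 = m
    · rw [if_pos h, List.filter_cons_of_pos (by simpa using h), List.map_cons, List.sum_cons]
    · rw [if_neg h, List.filter_cons_of_neg (by simpa using h), zero_add]

theorem sum_delta {L : List ℕ} (hn : L.Nodup) {m : ℕ} (hm : m ∈ L) (c : ℕ → K) :
    (L.map fun s => if s = m then c s else 0).sum = c m := by
  induction L with
  | nil => simp at hm
  | cons s L ih =>
    rw [List.nodup_cons] at hn
    rw [List.map_cons, List.sum_cons]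
    rcases List.mem_cons.1 hm with h | h
    · subst h
      rw [if_pos rfl]
      have : (L.map fun s => if s = m then c s else 0).sum = 0 := by
        apply List.sum_eq_zero
        intro x hx
        rw [List.mem_map] at hx
        obtain ⟨a, ha, rfl⟩ := hx
        rw [if_neg]
        rintro rfl
        exact hn.1 ha
      rw [this, add_zero]
    · rw [if_neg (by rintro rfl; exact hn.1 h), zero_add, ih hn.2 h]

theorem MM'_apply (g : ℕ) (t : K) (c : ℕ → K) {m : ℕ} (hm : m ∈ L14) :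
    MM' g t c m = c m + ((ctr g m).map fun q => (q.2.1 : K) * t ^ q.2.2.1 * (c q.1) ^ q.2.2.2).sum := by
  have hm' := L14_ne m hm
  unfold MM'
  rw [sum_apply]
  have h1 : ∀ s, img g t s (c s) m = (if s = m then c s else 0) +
      (((chevF4.commTerms g s).filter fun c => c.1 = m).map fun q => (q.2.1 : K) * t ^ q.2.2.1 * (c s) ^ q.2.2.2).sum := by
    intro s
    unfold img
    rw [Pi.add_apply, sg_apply hm', sum_apply, ← sum_filter]
    congr 2
    exact List.map_congr_left fun q _ => sg_apply hm' _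
  rw [List.map_congr_left fun s _ => h1 s, List.sum_map_add, sum_delta L14_nodup hm]
  congr 1
  unfold ctr
  rw [List.map_flatMap]
  clear h1
  induction L14 with
  | nil => rfl
  | cons s L ih =>
    rw [List.map_cons, List.sum_cons, ih, List.flatMap_cons, List.sum_append, List.map_map]
    rfl

/-! ### the group `V` -/

/-- the elements with coordinates -/
noncomputable def RS (K : Type u) [Field K] : Subgroup ↥(chevF4.group K) where
  carrier := {u | ∃ c, R u c}
  mul_mem' := by rintro u v ⟨c, hc⟩ ⟨d, hd⟩; exact ⟨_, hc.mul hd⟩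
  one_mem' := ⟨0, R.one⟩
  inv_mem' := by rintro u ⟨c, hc⟩; exact ⟨_, hc.inv⟩

/-- every element of `V` has coordinates -/
theorem exists_R {u : ↥(chevF4.group K)} (hu : u ∈ VV K) : ∃ c, R u c := by
  have h : VV K ≤ RS K := RGD.Sup_le fun x hx => by
    obtain ⟨r, hr, rfl⟩ := mem_NotJ_iff.1 hx
    intro y hy
    obtain ⟨t, rfl⟩ := (mem_XX_vec hF (lt_idxV r hr)).1 hy
    exact ⟨_, R.sg hr t⟩
  exact h hu

theorem e_mem_VV {r : ℕ} (hr : r ∈ idxV) (t : K) : e r t ∈ VV K :=
  RGD.le_Sup (mem_NotJ_iff.2 ⟨r, hr, rfl⟩) ((mem_XX_vec hF (lt_idxV r hr)).2 ⟨t, rfl⟩)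

theorem E_mem_VV {L : List ℕ} (hL : ∀ s ∈ L, s ∈ idxV) (c : ℕ → K) : E L c ∈ VV K := by
  induction L with
  | nil => exact one_mem _
  | cons s L ih =>
    rw [E_cons]
    exact mul_mem (e_mem_VV (hL s List.mem_cons_self) _) (ih fun s hs => hL s (List.mem_cons_of_mem _ hs))

theorem card_XX {r : ℕ} (hr : r < chevF4.nroots) : Nat.card ↥(XX chevF4 4 K (vec chevF4 4 r)) = Nat.card K := by
  symm
  refine Nat.card_congr (Equiv.ofBijective (fun t => (⟨ex hF r t, (mem_XX_vec hF hr).2 ⟨t, rfl⟩⟩ :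
    ↥(XX chevF4 4 K (vec chevF4 4 r)))) ⟨fun a b h => ex_inj hF hr (congrArg Subtype.val h), fun ⟨y, hy⟩ => ?_⟩)
  obtain ⟨t, rfl⟩ := (mem_XX_vec hF hr).1 hy
  exact ⟨t, rfl⟩

theorem nodup_vec : (idxV.map fun r => (fun i : Fin 4 => vec chevF4 4 r i)).Nodup := by decide +kernel

theorem card_VV [Finite K] : Nat.card ↥(VV K) = Nat.card K ^ 15 := by
  classical
  obtain ⟨p, hpc⟩ := CharP.exists K
  have : Fact p.Prime := ⟨CharP.char_is_prime K p⟩
  have Rd := rgd (K := K) hF cF p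
  let s : Finset (Fin 4 → ℤ) := (idxV.map fun r => vec chevF4 4 r).toFinset
  have hs : (s : Set (Fin 4 → ℤ)) = NotJ cF hF.isCartan J3 := by
    ext x
    rw [mem_NotJ_iff, Finset.mem_coe, List.mem_toFinset, List.mem_map]
    exact ⟨fun ⟨r, hr, h⟩ => ⟨r, hr, h.symm⟩, fun ⟨r, hr, h⟩ => ⟨r, hr, h.symm⟩⟩
  have hsc : s.card = 15 := by
    rw [List.toFinset_card_of_nodup nodup_vec, List.length_map]
    rfl
  have h1 := Cfsg.Agent.Nodes.CardSup.card_sup Rd (s := s) (by
    rw [hs]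
    rintro x hx
    exact ⟨hx.1, hx.2.1⟩) (by
    rw [hs]
    rintro x hx y hy z ⟨hz, m, a, b, hm, ha, hb, he⟩
    rw [mem_NotJ] at hx hy ⊢
    refine ⟨hz, ?_⟩
    have h2 := congrFun he 3
    rw [Pi.smul_apply, Pi.add_apply, Pi.smul_apply, Pi.smul_apply, smul_eq_mul, smul_eq_mul, smul_eq_mul] at h2
    by_contra hneg
    push Not at hneg
    have h3 : m * z 3 ≤ 0 := mul_nonpos_of_nonneg_of_nonpos hm.le hneg
    have h4 := mul_pos ha hx.2
    have h5 := mul_pos hb hy.2
    linarith)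
  rw [hs] at h1
  have h2 : ∏ x ∈ s, Nat.card ↥(XX chevF4 4 K x) = Nat.card K ^ 15 := by
    rw [Finset.prod_congr rfl (g := fun _ => Nat.card K), Finset.prod_const, hsc]
    intro x hx
    rw [List.mem_toFinset, List.mem_map] at hx
    obtain ⟨r, hr, rfl⟩ := hx
    exact card_XX (lt_idxV r hr)
  rw [← h2, ← h1]
  rfl

/-- extension by zero -/
noncomputable def xt (f : ↥L14.toFinset → K) (n : ℕ) : K := if h : n ∈ L14.toFinset then f ⟨n, h⟩ else 0

theorem unique [Finite K] {c d : ℕ → K} {a b : K} (h : E L14 c * e 47 a = E L14 d * e 47 b) :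
    (∀ s ∈ L14, c s = d s) ∧ a = b := by
  classical
  have hmem : ∀ (c : ℕ → K) (a : K), E L14 c * e 47 a ∈ VV K := fun c a =>
    mul_mem (E_mem_VV L14_sub c) (e_mem_VV (by decide) a)
  let Φ : (↥L14.toFinset → K) × K → ↥(VV K) := fun x => ⟨E L14 (xt x.1) * e 47 x.2, hmem _ _⟩
  have hxt : ∀ (c : ℕ → K), E L14 (xt fun s => c s.1) = E L14 c := by
    intro c
    refine E_congr fun s hs => ?_
    unfold xt
    rw [dif_pos (List.mem_toFinset.2 hs)]
  have hsurj : Function.Surjective Φ := by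
    rintro ⟨u, hu⟩
    obtain ⟨c, b, hc⟩ := exists_R hu
    refine ⟨(fun s => c s.1, b), Subtype.ext ?_⟩
    show E L14 (xt fun s => c s.1) * e 47 b = u
    rw [hxt, hc]
  have hcard : Nat.card ((↥L14.toFinset → K) × K) ≤ Nat.card ↥(VV K) := by
    have h14 : Nat.card ↥L14.toFinset = 14 := by
      rw [Nat.card_eq_fintype_card, Fintype.card_coe]
      rfl
    rw [card_VV, Nat.card_prod, Nat.card_fun, h14, ← pow_succ]
  have hbij := Function.Surjective.bijective_of_nat_card_le hsurj hcard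
  have h1 : Φ (fun s => c s.1, a) = Φ (fun s => d s.1, b) := by
    apply Subtype.ext
    show E L14 (xt fun s => c s.1) * e 47 a = E L14 (xt fun s => d s.1) * e 47 b
    rw [hxt, hxt, h]
  have h2 := hbij.1 h1
  refine ⟨fun s hs => ?_, congrArg Prod.snd h2⟩
  exact congrFun (congrArg Prod.fst h2) ⟨s, List.mem_toFinset.2 hs⟩

/-! ### the parabolic subgroup -/

/-- `P_J` -/
abbrev PP (K : Type u) [Field K] : Subgroup ↥(chevF4.group K) :=
  PJ cF hF.isCartan (TT chevF4 K) (XX chevF4 4 K) J3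

theorem e_mem_PP {r : ℕ} (hr : r ∈ idxM) (t : K) : e r t ∈ PP K :=
  LJ_le_PJ (X_le_LJ (mem_RootsJ_iff.2 ⟨r, hr, rfl⟩) ((mem_XX_vec hF (lt_idxM r hr)).2 ⟨t, rfl⟩))

theorem e_mem_PP' {r : ℕ} (hr : r ∈ idxV) (t : K) : e r t ∈ PP K := VJ_le_PJ (e_mem_VV hr t)

theorem t1 : ctr 22 24 = [(26, -1, 1, 1)] := by decide +kernel
theorem t2 : ctr 20 26 = [(29, -2, 1, 1), (31, -1, 2, 1)] := by decide +kernel
theorem t3 : ctr 22 31 = [(32, 1, 1, 1)] := by decide +kernel
theorem t4 : ctr 14 29 = [(36, -1, 1, 1)] := by decide +kernel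
theorem t5 : ctr 14 31 = [(38, -2, 1, 1), (42, -1, 2, 1)] := by decide +kernel
theorem t6 : ctr 14 32 = [(39, -2, 1, 1), (43, -1, 2, 1)] := by decide +kernel
theorem t7 : ctr 20 39 = [(40, 1, 1, 1)] := by decide +kernel
theorem t8 : ctr 14 40 = [(44, 1, 1, 1)] := by decide +kernel
theorem t9 : ctr 20 44 = [(45, 1, 1, 1)] := by decide +kernel
theorem t10 : ctr 22 45 = [(46, 1, 1, 1)] := by decide +kernel

/-- **irreducibility** -/
theorem exists_24 (h2 : (2 : K) ≠ 0) {u : ↥(chevF4.group K)} {c : ℕ → K} (hu : R u c)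
    (hne : u ∉ XX chevF4 4 K (vec chevF4 4 47)) : ∃ g ∈ PP K, ∃ c, R (g * u * g⁻¹) c ∧ c 24 ≠ 0 := by
  by_contra hcon
  push Not at hcon
  let Z : ℕ → Prop := fun m => ∀ g ∈ PP K, ∀ c, R (g * u * g⁻¹) c → c m = 0
  have z24 : Z 24 := hcon
  have stp : ∀ {γ m : ℕ}, γ ∈ idxM → m ∈ L14 → Z m → ∀ g ∈ PP K, ∀ c, R (g * u * g⁻¹) c → ∀ t : K,
      ((ctr γ m).map fun q => (q.2.1 : K) * t ^ q.2.2.1 * (c q.1) ^ q.2.2.2).sum = 0 := by
    intro γ m hγ hm hZ g hg c hc t
    have h1 := hc.conj hγ t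
    have h3 : e γ t * (g * u * g⁻¹) * (e γ t)⁻¹ = (e γ t * g) * u * (e γ t * g)⁻¹ := by group
    rw [h3] at h1
    have h4 := hZ _ (mul_mem (e_mem_PP hγ t) hg) _ h1
    rw [MM'_apply γ t c hm, hZ g hg c hc, zero_add] at h4
    exact h4
  have one : ∀ {γ m r : ℕ} {N : ℤ}, γ ∈ idxM → m ∈ L14 → ctr γ m = [(r, N, 1, 1)] → (N = 1 ∨ N = -1) → Z m → Z r := by
    intro γ m r N hγ hm ht hN hZ g hg c hc
    have h1 := stp hγ hm hZ g hg c hc 1
    rw [ht, List.map_cons, List.map_nil, List.sum_cons, List.sum_nil, add_zero] at h1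
    rcases hN with rfl | rfl
    · simpa using h1
    · simpa using h1
  have two : ∀ {γ m r r' : ℕ}, γ ∈ idxM → m ∈ L14 → ctr γ m = [(r, -2, 1, 1), (r', -1, 2, 1)] → Z m → Z r ∧ Z r' := by
    intro γ m r r' hγ hm ht hZ
    have h : ∀ g ∈ PP K, ∀ c, R (g * u * g⁻¹) c → c r = 0 ∧ c r' = 0 := by
      intro g hg c hc
      have h1 := stp hγ hm hZ g hg c hc 1
      have h3 := stp hγ hm hZ g hg c hc (-1)
      rw [ht, List.map_cons, List.map_cons, List.map_nil, List.sum_cons, List.sum_cons, List.sum_nil, add_zero] at h1 h3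
      simp only [Int.cast_neg, Int.cast_ofNat, Int.cast_one, pow_one, one_pow, mul_one, even_two,
        Even.neg_pow] at h1 h3
      have h4 : 2 * c r' = 0 := by linear_combination (-1 : K) * h1 - h3
      have h5 : c r' = 0 := (mul_eq_zero.1 h4).resolve_left h2
      have h6 : 2 * c r = 0 := by linear_combination (-1 : K) * h1 - h5
      exact ⟨(mul_eq_zero.1 h6).resolve_left h2, h5⟩
    exact ⟨fun g hg c hc => (h g hg c hc).1, fun g hg c hc => (h g hg c hc).2⟩
  have z26 := one (by decide) (by decide) t1 (by decide) z24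
  obtain ⟨z29, z31⟩ := two (by decide) (by decide) t2 z26
  have z32 := one (by decide) (by decide) t3 (by decide) z31
  have z36 := one (by decide) (by decide) t4 (by decide) z29
  obtain ⟨z38, z42⟩ := two (by decide) (by decide) t5 z31
  obtain ⟨z39, z43⟩ := two (by decide) (by decide) t6 z32
  have z40 := one (by decide) (by decide) t7 (by decide) z39
  have z44 := one (by decide) (by decide) t8 (by decide) z40
  have z45 := one (by decide) (by decide) t9 (by decide) z44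
  have z46 := one (by decide) (by decide) t10 (by decide) z45
  have hu' : R (1 * u * 1⁻¹) c := by rwa [one_mul, inv_one, mul_one]
  have hc : ∀ s ∈ L14, c s = (0 : ℕ → K) s := by
    intro s hs
    simp only [L14, List.mem_cons, List.not_mem_nil, or_false] at hs
    rcases hs with rfl | rfl | rfl | rfl | rfl | rfl | rfl | rfl | rfl | rfl | rfl | rfl | rfl | rfl
    · exact z24 1 (one_mem _) c hu'
    · exact z26 1 (one_mem _) c hu'
    · exact z29 1 (one_mem _) c hu'
    · exact z31 1 (one_mem _) c hu'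
    · exact z32 1 (one_mem _) c hu'
    · exact z36 1 (one_mem _) c hu'
    · exact z38 1 (one_mem _) c hu'
    · exact z39 1 (one_mem _) c hu'
    · exact z40 1 (one_mem _) c hu'
    · exact z42 1 (one_mem _) c hu'
    · exact z43 1 (one_mem _) c hu'
    · exact z44 1 (one_mem _) c hu'
    · exact z45 1 (one_mem _) c hu'
    · exact z46 1 (one_mem _) c hu'
  obtain ⟨b, hb⟩ := hu
  rw [E_congr hc, E_zero, one_mul] at hb
  apply hne
  rw [hb]
  exact (mem_XX_vec hF (by rw [nroots]; norm_num)).2 ⟨b, rfl⟩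

/-! ### the orbit -/

/-- the radical of the Siegel parabolic subgroup of `C₃` -/
def A6 : List ℕ := [25, 28, 30, 35, 37, 41]

theorem A6_M : ∀ γ ∈ A6, γ ∈ idxM := by decide

theorem A6_L : ∀ γ ∈ A6, γ + 1 ∈ L14 := by decide

theorem tA : ∀ γ ∈ A6, ctr γ 24 = [] ∧ ∀ δ ∈ A6, ctr γ (δ + 1) = if γ = δ then [(24, -1, 1, 1)] else [] := by
  decide +kernel

theorem orb {u : ↥(chevF4.group K)} {c : ℕ → K} (hu : R u c) (t : ℕ → K) : ∀ {L : List ℕ}, L.Nodup → (∀ γ ∈ L, γ ∈ A6) →
    ∃ c', R (E L t * u * (E L t)⁻¹) c' ∧ c' 24 = c 24 ∧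
      ∀ δ ∈ A6, c' (δ + 1) = c (δ + 1) - (if δ ∈ L then t δ * c 24 else 0) := by
  intro L
  induction L with
  | nil =>
    intro _ _
    refine ⟨c, ?_, rfl, fun δ _ => ?_⟩
    · rw [E_nil, one_mul, inv_one, mul_one]
      exact hu
    · rw [if_neg (List.not_mem_nil), sub_zero]
  | cons γ L ih =>
    intro hn hL
    rw [List.nodup_cons] at hn
    obtain ⟨c', h1, h2, h3⟩ := ih hn.2 fun γ hγ => hL γ (List.mem_cons_of_mem _ hγ)
    have hγ : γ ∈ A6 := hL γ List.mem_cons_self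
    obtain ⟨hA, hB⟩ := tA γ hγ
    refine ⟨MM' γ (t γ) c', ?_, ?_, ?_⟩
    · have h4 := h1.conj (A6_M γ hγ) (t γ)
      have h5 : e γ (t γ) * (E L t * u * (E L t)⁻¹) * (e γ (t γ))⁻¹ = E (γ :: L) t * u * (E (γ :: L) t)⁻¹ := by
        rw [E_cons]; group
      rwa [h5] at h4
    · rw [MM'_apply γ (t γ) c' (by decide), hA, List.map_nil, List.sum_nil, add_zero, h2]
    · intro δ hδ
      rw [MM'_apply γ (t γ) c' (A6_L δ hδ), hB δ hδ, h3 δ hδ]
      by_cases h : γ = δ
      · subst h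
        rw [if_pos rfl, if_neg hn.1, if_pos List.mem_cons_self, List.map_cons, List.map_nil, List.sum_cons,
          List.sum_nil, h2]
        simp only [Int.cast_neg, Int.cast_one, pow_one]
        ring
      · rw [if_neg h, List.map_nil, List.sum_nil, add_zero]
        congr 1
        refine if_congr ?_ rfl rfl
        rw [List.mem_cons]
        exact ⟨Or.inr, fun h' => h'.resolve_left (Ne.symm h)⟩

theorem t46 : ∀ s ∈ L14, s ≠ 24 → chevF4.commTerms 46 s = [] ∧ s ≠ chevF4.neg 46 := by decide +kernel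

theorem t46' : chevF4.commTerms 46 24 = [(47, -1, 1, 1)] ∧ 24 ≠ chevF4.neg 46 := by decide +kernel

theorem comm46 {s : ℕ} (hs : s ∈ L14) (h24 : s ≠ 24) (x y : K) : e s x * e 46 y = e 46 y * e s x := by
  by_cases h : s = 46
  · subst h
    show ex hF 46 x * ex hF 46 y = ex hF 46 y * ex hF 46 x
    rw [← ex_add hF, ← ex_add hF, add_comm]
  · obtain ⟨h1, h2⟩ := t46 s hs h24
    have h3 := ex_comm hF (by rw [nroots]; norm_num : 46 < chevF4.nroots) (lt_idxV s (L14_sub s hs)) h h2 y x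
    rw [h1, List.map_nil, List.prod_nil, mul_one] at h3
    exact h3

theorem E46 {L : List ℕ} (hL : ∀ s ∈ L, s ∈ L14 ∧ s ≠ 24) (c : ℕ → K) (y : K) : E L c * e 46 y = e 46 y * E L c := by
  induction L with
  | nil => rw [E_nil, one_mul, mul_one]
  | cons s L ih =>
    have h1 := ih fun s hs => hL s (List.mem_cons_of_mem _ hs)
    obtain ⟨h3, h4⟩ := hL s List.mem_cons_self
    rw [E_cons, mul_assoc, h1, ← mul_assoc, comm46 h3 h4, mul_assoc]

/-- conjugation by `x_46` -/
theorem conj46 (c : ℕ → K) (b y : K) :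
    e 46 y * (E L14 c * e 47 b) * (e 46 y)⁻¹ = E L14 c * e 47 (b - y * c 24) := by
  have hL : L14 = 24 :: L14.tail := rfl
  have h1 : E L14.tail c * e 46 y = e 46 y * E L14.tail c := E46 (by decide) c y
  have h47 : e 47 b * (e 46 y)⁻¹ = (e 46 y)⁻¹ * e 47 b := by
    have h2 : e 46 y * e 47 b = e 47 b * e 46 y := comm47 (by decide) y b
    rw [mul_inv_eq_iff_eq_mul, mul_assoc, ← h2, ← mul_assoc, inv_mul_cancel, one_mul]
  have h3 : e 46 y * e 24 (c 24) * (e 46 y)⁻¹ = e 24 (c 24) * e 47 (-(y * c 24)) := by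
    have h4 := conj_e (by rw [nroots]; norm_num : 46 < chevF4.nroots) (by rw [nroots]; norm_num : 24 < chevF4.nroots)
      (by norm_num) t46'.2 y (c 24)
    rw [t46'.1, List.map_cons, List.map_nil, List.prod_cons, List.prod_nil, mul_one] at h4
    rw [h4]
    congr 2
    simp only [Int.cast_neg, Int.cast_one, pow_one]
    ring
  have h5 := e47_comm_E (fun s hs => List.mem_of_mem_tail hs) c (-(y * c 24)) (L := L14.tail)
  have h6 : E L14 c = e 24 (c 24) * E L14.tail c := by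
    conv_lhs => rw [hL]
    exact E_cons _ _ _
  rw [h6]
  calc e 46 y * (e 24 (c 24) * E L14.tail c * e 47 b) * (e 46 y)⁻¹
      = e 46 y * e 24 (c 24) * E L14.tail c * (e 47 b * (e 46 y)⁻¹) := by group
    _ = e 46 y * e 24 (c 24) * (e 46 y)⁻¹ * (e 46 y * E L14.tail c) * (e 46 y)⁻¹ * e 47 b := by rw [h47]; group
    _ = e 24 (c 24) * e 47 (-(y * c 24)) * E L14.tail c * e 47 b := by rw [h3, ← h1]; group
    _ = e 24 (c 24) * (E L14.tail c * e 47 (-(y * c 24))) * e 47 b := by rw [h5]; group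
    _ = e 24 (c 24) * E L14.tail c * (e 47 (-(y * c 24)) * e 47 b) := by group
    _ = _ := by rw [e47_add, neg_add_eq_sub]

/-- the class of `u` under `P_J` -/
abbrev Cls (K : Type u) [Field K] (u : ↥(chevF4.group K)) : Type u :=
  {x : ↥(chevF4.group K) // ∃ g ∈ PP K, g * u * g⁻¹ = x}

/-- extension by zero -/
noncomputable def xa (f : ↥A6.toFinset → K) (n : ℕ) : K := if h : n ∈ A6.toFinset then f ⟨n, h⟩ else 0

theorem E_mem_PP {L : List ℕ} (hL : ∀ s ∈ L, s ∈ idxM) (c : ℕ → K) : E L c ∈ PP K := by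
  induction L with
  | nil => exact one_mem _
  | cons s L ih =>
    rw [E_cons]
    exact mul_mem (e_mem_PP (hL s List.mem_cons_self) _) (ih fun s hs => hL s (List.mem_cons_of_mem _ hs))

theorem card_le_of_24 [Finite K] {u : ↥(chevF4.group K)} {c : ℕ → K} (hu : R u c) (h24 : c 24 ≠ 0) :
    Nat.card K ^ 7 ≤ Nat.card (Cls K u) := by
  classical
  let Ψ : (↥A6.toFinset → K) × K → Cls K u := fun x =>
    ⟨(e 46 x.2 * E A6 (xa x.1)) * u * (e 46 x.2 * E A6 (xa x.1))⁻¹, _,
      mul_mem (e_mem_PP' (by decide) _) (E_mem_PP A6_M _), rfl⟩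
  have hcard : Nat.card ((↥A6.toFinset → K) × K) = Nat.card K ^ 7 := by
    have h6 : Nat.card ↥A6.toFinset = 6 := by
      rw [Nat.card_eq_fintype_card, Fintype.card_coe]
      rfl
    rw [Nat.card_prod, Nat.card_fun, h6, ← pow_succ]
  rw [← hcard]
  have : Finite ↥(chevF4.group K) := inferInstance
  refine Nat.card_le_card_of_injective Ψ ?_
  rintro ⟨f, y⟩ ⟨f', y'⟩ h
  have h1 : (e 46 y * E A6 (xa f)) * u * (e 46 y * E A6 (xa f))⁻¹ =
      (e 46 y' * E A6 (xa f')) * u * (e 46 y' * E A6 (xa f'))⁻¹ := congrArg Subtype.val h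
  obtain ⟨d, ⟨b, hd⟩, hd1, hd2⟩ := orb hu (xa f) (L := A6) (by decide) fun _ h => h
  obtain ⟨d', ⟨b', hd'⟩, hd1', hd2'⟩ := orb hu (xa f') (L := A6) (by decide) fun _ h => h
  have h2 : (e 46 y * E A6 (xa f)) * u * (e 46 y * E A6 (xa f))⁻¹ = E L14 d * e 47 (b - y * d 24) := by
    rw [← conj46, ← hd]; group
  have h2' : (e 46 y' * E A6 (xa f')) * u * (e 46 y' * E A6 (xa f'))⁻¹ = E L14 d' * e 47 (b' - y' * d' 24) := by
    rw [← conj46, ← hd']; group
  rw [h2, h2'] at h1
  obtain ⟨h3, h4⟩ := unique h1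
  have h5 : xa f = xa f' := by
    funext n
    by_cases hn : n ∈ A6
    · have h6 := h3 (n + 1) (A6_L n hn)
      rw [hd2 n hn, hd2' n hn, if_pos hn, if_pos hn] at h6
      exact mul_right_cancel₀ h24 (sub_right_injective h6)
    · unfold xa
      rw [dif_neg (by rwa [List.mem_toFinset]), dif_neg (by rwa [List.mem_toFinset])]
  have h7 : f = f' := by
    funext ⟨s, hs⟩
    have h8 := congrFun h5 s
    unfold xa at h8
    rwa [dif_pos hs, dif_pos hs] at h8
  subst h7
  have h9 : E L14 d * e 47 b = E L14 d' * e 47 b' := by rw [← hd, ← hd']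
  obtain ⟨-, h10⟩ := unique h9
  rw [hd1, hd1', h10] at h4
  have h11 : y = y' := mul_right_cancel₀ h24 (sub_right_injective h4)
  rw [h11]

/-- **the orbits of `P_J` outside `X_θ` have at least `q ^ 7` elements** -/
theorem oc3 [Finite K] (h2 : (2 : K) ≠ 0) {u : ↥(chevF4.group K)}
    (hu : u ∈ VJ cF hF.isCartan (XX chevF4 4 K) {k | k ≠ 3}) (hu' : u ∉ XX chevF4 4 K (vec chevF4 4 47)) :
    Nat.card K ^ 7 ≤ Nat.card {x : ↥(chevF4.group K) //
      ∃ g ∈ PJ cF hF.isCartan (TT chevF4 K) (XX chevF4 4 K) {k | k ≠ 3}, g * u * g⁻¹ = x} := by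
  obtain ⟨c, hc⟩ := exists_R (show u ∈ VV K from hu)
  obtain ⟨g, hg, d, hd, h24⟩ := exists_24 h2 hc hu'
  have h1 := card_le_of_24 hd h24
  refine h1.trans ?_
  have : Finite ↥(chevF4.group K) := inferInstance
  refine Nat.card_le_card_of_injective (fun x : Cls K (g * u * g⁻¹) =>
    (⟨x.1, by
      obtain ⟨k, hk, hx⟩ := x.2
      exact ⟨k * g, mul_mem hk hg, by rw [← hx]; group⟩⟩ : Cls K u)) fun x y hxy => ?_
  exact Subtype.ext (congrArg (fun z : Cls K u => z.1) hxy)

end Cfsg.Agent.H797.FQ
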